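import Cfsg.Agent.PSL2Bin.Basic

/-!
No non-trivial proper subgroup of PSL(2,q), q odd, gives a binary coset action.
-/

set_option autoImplicit false

namespace Cfsg.Agent.PSL2Bin

open Matrix Cfsg.Agent.SL2Class Cfsg.Agent.Classical.Dickson2
open Cfsg.Agent.Suzuki (Bin Hull mem_hull hull_le hull_mono hull_inv hull_conj_eq card_hull_conj)
open scoped MatrixGroups

variable {F : Type*} [Field F] [Fintype F]

local notation "SG" => Matrix.SpecialLinearGroup (Fin 2) F
local notation "M2" => Matrix (Fin 2) (Fin 2) F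
local notation "PG" => Matrix.ProjectiveSpecialLinearGroup (Fin 2) F
local notation:1024 "↥ₘ" A:1024 => ((A : Matrix.SpecialLinearGroup (Fin 2) F) : Matrix (Fin 2) (Fin 2) F)

variable (p : ℕ) [Fact p.Prime] [CharP F p] {H : Subgroup (Matrix.ProjectiveSpecialLinearGroup (Fin 2) F)}

omit [Fact p.Prime] [CharP F p] in
theorem two_ne (hodd : Odd (Fintype.card F)) : (2 : F) ≠ 0 := fun h => by
  have : CharP F 2 := CharTwo.of_one_ne_zero_of_two_eq_zero one_ne_zero h
  have := FiniteField.even_card_of_char_two (F := F) (ringChar.eq F 2)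
  obtain ⟨j, hj⟩ := hodd
  omega

theorem tri_unip (h2 : (2 : F) ≠ 0) {x : PG} (hx1 : x ≠ 1) (hx : x ^ p = 1) : Tri x := by
  obtain ⟨c, hc⟩ := exists_conj_rootP (F := F) p hx1 hx
  have hm : c⁻¹ * x * c ∈ rootP (F := F) := mem_map_conj.1 (hc ▸ mem_tor x)
  obtain ⟨μ, hμ⟩ := hm
  rw [MonoidHom.comp_apply] at hμ
  suffices hs : Tri (c⁻¹ * x * c) by
    have := hs.conj c
    rwa [show c * (c⁻¹ * x * c) * c⁻¹ = x by group] at this
  obtain ⟨g, hg, hgx⟩ : ∃ g : SG, ↥ₘ g = !![1, μ.toAdd; 0, 1] ∧ proj g = c⁻¹ * x * c :=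
    ⟨Classical.rootHomSL μ, Classical.rootHomSL_coe μ, hμ⟩
  set m := μ.toAdd with hm'
  have hm0 : m ≠ 0 := by
    intro e
    have : g = 1 := Subtype.ext (by rw [hg, e]; exact Matrix.one_fin_two.symm)
    rw [this, map_one] at hgx
    exact hx1 (by simpa using (mul_inv_eq_one.1 (show c⁻¹ * x * (c⁻¹)⁻¹ = 1 by rw [inv_inv]; exact hgx.symm)))
  obtain ⟨h, hh⟩ : ∃ h : SG, ↥ₘ h = !![1, 0; 4 / m, 1] := ⟨⟨_, by simp [det_fin_two_of]⟩, rfl⟩
  obtain ⟨k, hk⟩ : ∃ k : SG, ↥ₘ k = !![0, m / 2; -(2 / m), 0] :=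
    ⟨⟨_, by rw [det_fin_two_of]; field_simp; ring⟩, rfl⟩
  obtain ⟨k', hk'⟩ : ∃ k : SG, ↥ₘ k = !![1, 0; -(2 / m), 1] := ⟨⟨_, by simp [det_fin_two_of]⟩, rfl⟩
  have e1 : h * k = k * g⁻¹ := Subtype.ext <| by
    simp only [Matrix.SpecialLinearGroup.coe_mul, Matrix.SpecialLinearGroup.coe_inv, hg, hh, hk,
      Matrix.adjugate_fin_two_of, Matrix.mul_fin_two]
    ext i j
    fin_cases i <;> fin_cases j <;> simp <;> field_simp <;> ring
  have e2 : -(h⁻¹ * g) * k' = k' * g⁻¹ := Subtype.ext <| by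
    simp only [Matrix.SpecialLinearGroup.coe_neg, Matrix.SpecialLinearGroup.coe_mul,
      Matrix.SpecialLinearGroup.coe_inv, hg, hh, hk', Matrix.adjugate_fin_two_of, Matrix.mul_fin_two]
    ext i j
    fin_cases i <;> fin_cases j <;> simp <;> field_simp <;> ring
  refine ⟨proj h, proj (h⁻¹ * g), ⟨proj k, Or.inr ?_⟩, ⟨proj k', Or.inr ?_⟩, ?_, ?_⟩
  · rw [← hgx, ← map_inv, ← map_inv, ← map_mul, ← map_mul, ← e1, mul_inv_cancel_right]
  · rw [← hgx, ← map_inv, ← map_inv, ← map_mul, ← map_mul, ← e2, mul_inv_cancel_right]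
    exact proj_eq_iff.2 (Or.inr rfl)
  · rw [← hgx, ← map_mul, mul_inv_cancel_left]
  · rw [← hgx, tor_proj, proj_mem_torus_iff, Subgroup.mem_centralizer_singleton_iff]
    intro e
    have e' := congrFun (congrFun (congrArg (fun A : SG => ↥ₘ A) e) 1) 1
    simp [hg, hh, Matrix.SpecialLinearGroup.coe_mul, Matrix.mul_apply, Fin.sum_univ_two] at e'
    have h40 : (4 : F) ≠ 0 := fun e4 => mul_ne_zero h2 h2 (by linear_combination e4)
    exact h40 (by rcases e' with e' | e' <;> first | exact e' | simp [hm0] at e')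

include p in
theorem exists_invol_of_ne_bot (hb : Bin H) (hq : 4 ≤ Fintype.card F) (h2 : (2 : F) ≠ 0) (hne : H ≠ ⊥) :
    ∃ v ∈ H, v ≠ 1 ∧ v * v = 1 := by
  obtain ⟨x, hx, hx1⟩ := H.bot_or_exists_ne_one.resolve_left hne
  have key : ∀ s ∈ H, s ^ p ≠ 1 → ∃ v ∈ H, v ≠ 1 ∧ v * v = 1 := fun s hs hsp => by
    by_cases hs2 : s * s = 1
    · exact ⟨s, hs, ne_one_of_semis p hsp, hs2⟩
    obtain ⟨v, hv, h⟩ := invol_in_hull p hb hq hs hsp hs2 (fun he => h2 he.1)
    exact ⟨v, hull_le hs hv, h⟩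
  by_cases hxp : x ^ p = 1
  swap
  · exact key x hx hxp
  by_contra hno
  have hall : ∀ m ∈ Hull H x, m ^ p = 1 := fun m hm => by_contra fun hmp => hno (key m (hull_le hx hm) hmp)
  have hpg : IsPGroup p (Hull H x) := fun m => ⟨1, by rw [pow_one]; exact Subtype.ext (hall m m.2)⟩
  obtain ⟨u, hu1, -, hle⟩ := le_tor_of_isPGroup p hpg fun e => hx1 (Subgroup.mem_bot.1 (e ▸ mem_hull x))
  refine hull_not_le_tor hb hx hx1 (tri_unip p h2 hx1 hxp) ?_
  rwa [tor_eq hu1 (hle (mem_hull x)) hx1]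

section invol

variable {y : Matrix.ProjectiveSpecialLinearGroup (Fin 2) F}

theorem invol_semis (hp : Odd p) (hy1 : y ≠ 1) (hy : y * y = 1) : y ^ p ≠ 1 := by
  obtain ⟨j, rfl⟩ := hp
  rw [pow_succ, pow_mul, pow_two, hy, one_pow, one_mul]
  exact hy1

omit [Fintype F] [Fact p.Prime] [CharP F p] in
theorem tr_zero_of_invol {g : SG} (hns : NonScalar g) (hy : proj g * proj g = 1) : tr g = 0 := by
  rw [← map_mul, proj_eq_one, SL2Class.mem_center_iff] at hy
  have e := g_sq g
  rw [← Matrix.SpecialLinearGroup.coe_mul] at e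
  rcases scalar_cases hy with h | h
  · rw [h, ← lin_one g] at e
    exact (lin_ext hns e).2.symm
  · rw [h, show (-1 : M2) = lin g (-1) 0 by simp [lin]] at e
    exact (lin_ext hns e).2.symm

omit [Fact p.Prime] [CharP F p] in
theorem invol_conj (h : (4 : F) ≠ 0 ∨ (2 : F) = 0) {v : PG} (hy1 : y ≠ 1)
    (hy : y * y = 1) (hv1 : v ≠ 1) (hv : v * v = 1) : ∃ k, k * y * k⁻¹ = v := by
  have t1 := tr_zero_of_invol (nonScalar_sect hy1) (by rwa [proj_sect])
  have t2 := tr_zero_of_invol (nonScalar_sect hv1) (by rwa [proj_sect])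
  obtain ⟨c, hc⟩ := isConj_iff.1 (isConj_of_tr (nonScalar_sect hy1) (nonScalar_sect hv1) (t1.trans t2.symm)
    (by rw [t1, mul_zero]; exact h.imp (fun h' => h'.symm) id))
  exact ⟨proj c, by rw [← proj_sect y, ← map_inv, ← map_mul, ← map_mul, hc, proj_sect]⟩

theorem card_tor_invol (hodd : Odd (Fintype.card F)) (hp : Odd p) (hy1 : y ≠ 1) (hy : y * y = 1) :
    2 ∣ Nat.card (tor y) ∧ (Nat.card (tor y) * 2 + 1 = Fintype.card F ∨ Nat.card (tor y) * 2 = Fintype.card F + 1) := by
  refine ⟨?_, ?_⟩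
  · haveI : Fact (Nat.Prime 2) := ⟨Nat.prime_two⟩
    have h : orderOf y = 2 := orderOf_eq_prime (by rw [pow_two]; exact hy) hy1
    have := Subgroup.orderOf_dvd_natCard (tor y) (mem_tor y)
    rwa [h] at this
  · have hg : Nat.gcd 2 (Fintype.card F - 1) = 2 := Nat.gcd_eq_left (by obtain ⟨j, hj⟩ := hodd; omega)
    have := card_tor_semis p (invol_semis p hp hy1 hy)
    rw [hg] at this
    have := Fintype.one_lt_card (α := F)
    omega

end invol

omit [Fact p.Prime] [CharP F p] in
theorem centralizer_invol {y k : PG} (hk : k ∈ Subgroup.normalizer (tor y : Set PG)) (hy : y * y = 1)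
    (hsemis : ∀ t ∈ tor y, k ∉ tor y → k * t * k⁻¹ = t⁻¹) (hy1 : y ≠ 1) : k * y = y * k := by
  by_cases h : k ∈ tor y
  · exact tor_comm hy1 h (mem_tor y)
  · have := hsemis y (mem_tor y) h
    rw [inv_eq_of_mul_eq_one_right hy, mul_inv_eq_iff_eq_mul] at this
    exact this

/-- A subgroup of order four of a 2-group index three. -/
theorem exists_core {P N : Subgroup PG} (hNP : N ≤ P) (hN : Nat.card N = 8) (hP : Nat.card P = 24) :
    ∃ K ≤ N, (∀ g ∈ P, ∀ k ∈ K, g * k * g⁻¹ ∈ K) ∧ (Nat.card K = 4 ∨ Nat.card K = 8) := by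
  classical
  set N' := N.subgroupOf P
  have hN' : Nat.card N' = 8 := by rw [Nat.card_congr (Subgroup.subgroupOfEquivOfLe hNP).toEquiv, hN]
  have hidx : N'.index = 3 := by
    have := N'.card_mul_index
    rw [hN', hP] at this
    omega
  set f := MulAction.toPermHom P (P ⧸ N')
  have hker : N'.normalCore = f.ker := Subgroup.normalCore_eq_ker N'
  have h1 : Nat.card f.range ∣ 6 := by
    have h := f.range.card_subgroup_dvd_card
    rw [Nat.card_perm, show Nat.card (P ⧸ N') = 3 from hidx] at h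
    exact h
  have h2 : Nat.card f.ker * Nat.card f.range = 24 := by
    rw [← hP, ← Subgroup.index_ker f, Subgroup.card_mul_index]
  have h3 : Nat.card N'.normalCore ∣ 8 := hN' ▸ Subgroup.card_dvd_of_le N'.normalCore_le
  rw [hker] at h3
  refine ⟨N'.normalCore.map P.subtype, ?_, ?_, ?_⟩
  · rintro _ ⟨k, hk, rfl⟩
    exact N'.normalCore_le hk
  · rintro g hg _ ⟨k, hk, rfl⟩
    exact ⟨_, (Subgroup.normalCore_normal N').conj_mem k hk ⟨g, hg⟩, rfl⟩
  · rw [Subgroup.card_map_of_injective P.subtype_injective, hker]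
    have hle := Nat.le_of_dvd (by norm_num) h1
    have hle2 := Nat.le_of_dvd (by norm_num) h3
    generalize Nat.card f.range = r at h1 h2 hle
    generalize Nat.card f.ker = k at h2 h3 hle2 ⊢
    interval_cases k <;> omega

include p in
theorem card_overgroup {q : ℕ} (hq : Fintype.card F = q) (h79 : q = 7 ∨ q = 9) {P : Subgroup PG}
    (h8 : 8 ∣ Nat.card P) (h8' : 8 < Nat.card P) (hP : P ≠ ⊤) : Nat.card P = 24 := by
  have hgcd : Nat.gcd 2 (Fintype.card F - 1) = 2 := Nat.gcd_eq_left (by omega)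
  rcases classify p P with ⟨z, hz, hM⟩ | ⟨u, hu1, hu, hM⟩ | ⟨⟨e⟩⟩ | ⟨⟨e⟩⟩ | ⟨⟨e⟩⟩ | h
  · have h1 := Subgroup.card_le_of_le hM
    rw [card_normalizer_semis p hz] at h1
    have h2 := card_tor_semis p hz
    rw [hgcd] at h2
    omega
  · have h1 := h8.trans (Subgroup.card_dvd_of_le hM)
    have h2 := card_normalizer_unip p hu1 hu
    rw [hgcd] at h2
    rcases h79 with rfl | rfl <;> rw [hq] at h2 <;> norm_num at h2 <;> omega
  · rw [Nat.card_congr e.toEquiv, card_a4] at h8; omega
  · rw [Nat.card_congr e.toEquiv, card_s4]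
  · rw [Nat.card_congr e.toEquiv, card_a5] at h8; omega
  · obtain ⟨s, m, hm, hs, -, hc, -⟩ := sub_card p h
    have hm2 := sub_proper hm hc hP
    have hle := sub_card_le hc
    have hs2 : s ^ 2 ≤ q := hq ▸ hm ▸ Nat.pow_le_pow_right (by omega) hm2
    have hs3 : s = 3 := by
      by_contra hne
      have : 4 ^ 2 ≤ s ^ 2 := Nat.pow_le_pow_left (by omega) 2
      omega
    subst hs3
    norm_num at hle
    obtain ⟨j, hj⟩ := h8
    rcases hc with hc | ⟨hc, -⟩ <;> norm_num at hc <;> omega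

include p in
theorem no_invol (hb : Bin H) (hH : H ≠ ⊤) (hodd : Odd (Fintype.card F)) (hq : 7 ≤ Fintype.card F)
    {y : PG} (hy : y ∈ H) (hy1 : y ≠ 1) (hy2 : y * y = 1) : False := by
  have h2 := two_ne hodd
  have hp : Odd p := (Fact.out : p.Prime).odd_of_ne_two fun e => h2 (by
    subst e; exact CharP.cast_eq_zero F 2 ▸ (Nat.cast_ofNat (R := F)).symm)
  have h4 : (4 : F) ≠ 0 := fun e => mul_ne_zero h2 h2 (by linear_combination e)
  have hsy := invol_semis p hp hy1 hy2
  have hq4 : 4 ≤ Fintype.card F := by omega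
  set M := Hull H y with hMdef
  set P := Subgroup.normalizer (M : Set PG) with hPdef
  have hPtop : P ≠ ⊤ := normalizer_hull_ne_top hq4 hH hy hy1
  have hNP : ∀ v : PG, v ≠ 1 → v * v = 1 → v ∈ M →
      Hull H v = M ∧ Subgroup.normalizer (tor v : Set PG) ≤ P := fun v hv1 hv hvM => by
    obtain ⟨k, hk⟩ := invol_conj (Or.inl h4) hy1 hy2 hv1 hv
    have e := hull_eq_of_mem hvM hk
    refine ⟨e, ?_⟩
    show Subgroup.normalizer (tor v : Set PG) ≤ Subgroup.normalizer (M : Set PG)
    rw [hMdef, show Hull H y = Hull H v from e.symm]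
    exact normalizer_tor_le p (invol_semis p hp hv1 hv)
  have hN : Subgroup.normalizer (tor y : Set PG) ≤ P := normalizer_tor_le p hsy
  have hnot := hull_not_le_tor hb hy hy1 (tri_semis p hq4 hsy fun he => h2 he.1)
  obtain ⟨hm2, hmq⟩ := card_tor_invol p hodd hp hy1 hy2
  set n := Nat.card (tor y) with hn
  have hn4 : 4 ≤ n := by omega
  have hne : P ≠ Subgroup.normalizer (tor y : Set PG) := by
    intro hP
    obtain ⟨v, hv, hvn⟩ := SetLike.not_le_iff_exists.1 hnot
    have hvN : v ∈ Subgroup.normalizer (tor y : Set PG) := hP ▸ Subgroup.le_normalizer hv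
    have hv2 := (inverts_of_not_mem p hsy hvN hvn).1
    have hv1 : v ≠ 1 := fun e => hvn (e ▸ one_mem _)
    have hsv := invol_semis p hp hv1 hv2
    obtain ⟨-, hle⟩ := hNP v hv1 hv2 hv
    rw [hP] at hle
    obtain ⟨t, ht, hord⟩ := exists_generator_tor p hsv
    obtain ⟨hv2', hvq⟩ := card_tor_invol p hodd hp hv1 hv2
    have ht1 : t ≠ 1 := fun e => by rw [e, orderOf_one] at hord; omega
    have hty : t ∈ tor y := by
      by_contra htn
      have := orderOf_dvd_of_pow_eq_one (show t ^ 2 = 1 by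
        rw [pow_two]; exact (inverts_of_not_mem p hsy (hle (Subgroup.le_normalizer ht)) htn).1)
      have := Nat.le_of_dvd two_pos this
      omega
    exact hvn ((tor_eq (ne_one_of_semis p hsy) hty ht1).symm.trans
      (tor_eq (ne_one_of_semis p hsv) ht ht1) ▸ mem_tor v)
  have h79 : Fintype.card F = 7 ∨ Fintype.card F = 9 := by
    by_contra hcon
    have h6 : 6 ≤ n := by
      obtain ⟨j, hj⟩ := hm2
      have h6' : Fintype.card F ≠ 8 := fun e => by rw [e] at hodd; exact absurd hodd (by decide)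
      omega
    exact hne ((hN.eq_or_lt.resolve_right fun hlt => hPtop ((isCoatom_toral p hq4 (by omega) hsy (Or.inl h6)).2 P hlt)).symm)
  have hn4' : n = 4 := by obtain ⟨j, hj⟩ := hm2; omega
  obtain ⟨t, ht, hord⟩ := exists_generator_tor p hsy
  rw [← hn, hn4'] at hord
  have hcardN : Nat.card (Subgroup.normalizer (tor y : Set PG)) = 8 := by
    rw [card_normalizer_semis p hsy, ← hn, hn4']
  have htt : t * t ≠ 1 := fun e => by
    have := Nat.le_of_dvd two_pos (orderOf_dvd_of_pow_eq_one (show t ^ 2 = 1 by rw [pow_two]; exact e))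
    omega
  haveI := isCyclic_tor p hsy
  have htor : ∀ z ∈ tor y, z = 1 ∨ z = t ∨ z = t * t ∨ z = t * t * t := by
    intro z hz
    have hgen : Subgroup.zpowers t = tor y := Subgroup.eq_of_le_of_card_ge
      ((Subgroup.zpowers_le).2 ht) (by rw [Nat.card_zpowers, hord, ← hn, hn4'])
    rw [← hgen] at hz
    obtain ⟨k, hk⟩ := (isOfFinOrder_of_finite t).mem_powers_iff_mem_zpowers.2 hz
    subst hk
    show t ^ k = 1 ∨ t ^ k = t ∨ t ^ k = t * t ∨ t ^ k = t * t * t
    rw [← pow_mod_orderOf, hord]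
    have : k % 4 < 4 := Nat.mod_lt _ (by norm_num)
    interval_cases h : k % 4 <;> simp [pow_succ]
  have hyt : y = t * t := by
    rcases htor y (mem_tor y) with e | e | e | e
    · exact absurd e hy1
    · exact absurd (e ▸ hy2 : t * t = 1) htt
    · exact e
    · exfalso; apply htt
      have h4 : t ^ 4 = 1 := hord ▸ pow_orderOf_eq_one t
      calc t * t = t ^ 4 * (t * t) := by rw [h4, one_mul]
        _ = y * y := by simp [e, pow_succ, mul_assoc]
        _ = 1 := hy2
  have hcent : ∀ k : PG, k * y = y * k ↔ k ∈ Subgroup.normalizer (tor y : Set PG) := fun k =>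
    ⟨fun h => centralizer_semis h,
      fun h => centralizer_invol h hy2 (fun s hs hn => (inverts_of_not_mem p hsy h hn).2 s hs) hy1⟩
  have hPlt : Subgroup.normalizer (tor y : Set PG) < P := lt_of_le_of_ne hN (Ne.symm hne)
  have hcardP : Nat.card P = 24 := by
    refine card_overgroup p rfl h79 (hcardN ▸ Subgroup.card_dvd_of_le hN) ?_ hPtop
    by_contra hle
    exact hne (Subgroup.eq_of_le_of_card_ge hN (by rw [hcardN]; omega)).symm
  obtain ⟨K, hKN, hKP, hK⟩ := exists_core hN hcardN hcardP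
  have hnotcent : ∃ c ∈ P, c * y ≠ y * c := by
    by_contra hcon
    push Not at hcon
    exact hne (le_antisymm (fun c hc => (hcent c).1 (hcon c hc)) hN)
  obtain ⟨c, hcP, hcy⟩ := hnotcent
  have hK4 : Nat.card K = 4 := by
    refine hK.resolve_right fun h8 => hcy ?_
    have hKe : K = Subgroup.normalizer (tor y : Set PG) := Subgroup.eq_of_le_of_card_ge hKN (by rw [hcardN, h8])
    set z := c * y * c⁻¹
    have hzN : z ∈ Subgroup.normalizer (tor y : Set PG) := hKe ▸ hKP c hcP y (hKe ▸ Subgroup.le_normalizer (mem_tor y))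
    have hzc : z * t = t * z := by
      have h1 : c⁻¹ * t * c ∈ Subgroup.normalizer (tor y : Set PG) := by
        have := hKP c⁻¹ (inv_mem hcP) t (hKe ▸ Subgroup.le_normalizer ht)
        rw [inv_inv, hKe] at this
        exact this
      have h3 := (hcent _).2 h1
      calc z * t = c * (y * (c⁻¹ * t * c)) * c⁻¹ := by simp only [z]; group
        _ = c * (c⁻¹ * t * c * y) * c⁻¹ := by rw [h3]
        _ = t * z := by simp only [z]; group
    have hzt : z ∈ tor y := by
      by_contra hzn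
      have h := (inverts_of_not_mem p hsy hzN hzn).2 t ht
      rw [hzc, mul_inv_cancel_right] at h
      exact htt (by nth_rw 2 [h]; rw [mul_inv_cancel])
    have hzy : z = y := by
      have hz2 : z * z = 1 := by
        calc z * z = c * (y * y) * c⁻¹ := by simp only [z]; group
          _ = 1 := by rw [hy2]; group
      rcases htor z hzt with e | e | e | e
      · exact absurd (by simpa [z] using e) hy1
      · exact absurd (e ▸ hz2 : t * t = 1) htt
      · exact e.trans hyt.symm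
      · exfalso; apply htt
        have h4 : t ^ 4 = 1 := hord ▸ pow_orderOf_eq_one t
        calc t * t = t ^ 4 * (t * t) := by rw [h4, one_mul]
          _ = z * z := by simp [e, pow_succ, mul_assoc]
          _ = 1 := hz2
    exact mul_inv_eq_iff_eq_mul.1 hzy
  obtain ⟨u, huK, hut⟩ : ∃ u ∈ K, u ∉ tor y := by
    by_contra hcon
    push Not at hcon
    have hKe : K = tor y := Subgroup.eq_of_le_of_card_ge hcon (by rw [hK4]; omega)
    refine hne (le_antisymm (fun g hg => ?_) hN)
    rw [Subgroup.mem_normalizer_iff]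
    intro k
    refine ⟨fun hk => hKe ▸ hKP g hg k (hKe ▸ hk), fun hk => ?_⟩
    have := hKP g⁻¹ (inv_mem hg) _ (hKe ▸ hk)
    rw [inv_inv, hKe] at this
    simpa [mul_assoc] using this
  obtain ⟨hu2, hui⟩ := inverts_of_not_mem p hsy (hKN huK) hut
  have hu1 : u ≠ 1 := fun e => hut (e ▸ one_mem _)
  have huinv : u⁻¹ = u := inv_eq_of_mul_eq_one_right hu2
  have hutu : u * t * u = t⁻¹ := by simpa [huinv] using hui t ht
  have hyK : y ∈ K := by
    have h := mul_mem (hKP t (hN (Subgroup.le_normalizer ht)) u huK) huK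
    have e : t * u * t⁻¹ * u = y := by
      rw [hyt, mul_assoc (t * u), mul_assoc t u]
      congr 1
      calc u * (t⁻¹ * u) = (u⁻¹ * t * u⁻¹)⁻¹ := by group
        _ = t := by rw [huinv, hutu, inv_inv]
    rwa [e] at h
  have htK : t ∉ K := fun htk => by
    have hle : tor y ≤ K := fun s hs => by
      rcases htor s hs with e' | e' | e' | e' <;> rw [e']
      · exact one_mem _
      · exact htk
      · exact mul_mem htk htk
      · exact mul_mem (mul_mem htk htk) htk
    exact hut ((Subgroup.eq_of_le_of_card_ge hle (by rw [hK4]; omega)).symm ▸ huK)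
  have hsq : ∀ k ∈ K, k * k = 1 := by
    intro k hk
    by_cases hkt : k ∈ tor y
    · rcases htor k hkt with e | e | e | e
      · rw [e, one_mul]
      · exact absurd (e ▸ hk) htK
      · rw [e, ← hyt, hy2]
      · exfalso
        refine htK ?_
        have h4 : t ^ 4 = 1 := hord ▸ pow_orderOf_eq_one t
        have : t = k * (t * t) := by
          rw [e]
          calc t = t ^ 4 * t := by rw [h4, one_mul]
            _ = _ := by simp [pow_succ, mul_assoc]
        rw [this]; exact mul_mem hk (hyt ▸ hyK)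
    · exact (inverts_of_not_mem p hsy (hKN hk) hkt).1
  have hKM : K ≤ M := by
    have h1 : c * y * c⁻¹ ∈ M := (Subgroup.mem_normalizer_iff.1 hcP y).1 (mem_hull y)
    have h2 : c * y * c⁻¹ ∈ K := hKP c hcP y hyK
    have hne2 : c * y * c⁻¹ ≠ y := fun e => hcy (mul_inv_eq_iff_eq_mul.1 e)
    have hne1 : c * y * c⁻¹ ≠ 1 := fun e => hy1 (by simpa using e)
    have hle : 3 ≤ Nat.card (M ⊓ K : Subgroup PG) := by
      classical
      have := Finset.card_le_card (show ({(1 : PG), y, c * y * c⁻¹} : Finset PG) ⊆ (M ⊓ K : Subgroup PG).carrier.toFinset from by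
        intro a ha
        simp only [Finset.mem_insert, Finset.mem_singleton] at ha
        rw [Set.mem_toFinset]
        rcases ha with e | e | e <;> rw [e]
        · exact (M ⊓ K).one_mem
        · exact ⟨mem_hull y, hyK⟩
        · exact ⟨h1, h2⟩)
      rw [Finset.card_insert_of_notMem (by simp [Ne.symm hy1, Ne.symm hne1]),
        Finset.card_insert_of_notMem (by simp [Ne.symm hne2]), Finset.card_singleton, Set.toFinset_card] at this
      rw [Nat.card_eq_fintype_card]
      exact this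
    have hd := Subgroup.card_dvd_of_le (inf_le_right : M ⊓ K ≤ K)
    rw [hK4] at hd
    have hle4 := Nat.le_of_dvd (by norm_num) hd
    have : M ⊓ K = K := Subgroup.eq_of_le_of_card_ge inf_le_right (by
      rw [hK4]; interval_cases Nat.card (M ⊓ K : Subgroup PG) <;> omega)
    exact this ▸ inf_le_left
  set w := t * u with hwdef
  have hw2 : w * w = 1 := by
    rw [hwdef, mul_assoc, ← mul_assoc u t u, hutu, mul_inv_cancel]
  have hwN : w ∈ Subgroup.normalizer (tor y : Set PG) := mul_mem (Subgroup.le_normalizer ht) (hKN huK)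
  have hwt : w ∉ tor y := fun h => hut (by simpa [hwdef] using mul_mem (inv_mem ht) h)
  have hw1 : w ≠ 1 := fun e => hwt (e ▸ one_mem _)
  have hwy : w * y = y * w := (hcent w).2 hwN
  have hwM : w ∉ M := by
    intro hwM
    obtain ⟨-, hle⟩ := hNP w hw1 hw2 hwM
    set Nw := Subgroup.normalizer (tor w : Set PG)
    have hsw := invol_semis p hp hw1 hw2
    obtain ⟨hwev, hwq⟩ := card_tor_invol p hodd hp hw1 hw2
    have hcw : Nat.card Nw = 8 := by
      rw [card_normalizer_semis p hsw]; obtain ⟨j, hj⟩ := hwev; omega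
    haveI : Fact (Nat.Prime 2) := ⟨Nat.prime_two⟩
    have hKn : (K.subgroupOf P).Normal := ⟨fun n hn g => hKP g g.2 n hn⟩
    have hKle : K ≤ P := hKN.trans hN
    have hpK : IsPGroup 2 (K.subgroupOf P) := IsPGroup.of_card (n := 2)
      (by rw [Nat.card_congr (Subgroup.subgroupOfEquivOfLe hKle).toEquiv, hK4]; norm_num)
    have hpN : IsPGroup 2 (Nw.subgroupOf P) := IsPGroup.of_card (n := 3)
      (by rw [Nat.card_congr (Subgroup.subgroupOfEquivOfLe hle).toEquiv, hcw]; norm_num)
    obtain ⟨j, hj⟩ := (IsPGroup.to_sup_of_normal_right hpN hpK).exists_card_eq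
    have hd := (Nw.subgroupOf P ⊔ K.subgroupOf P).card_subgroup_dvd_card
    rw [hj, hcardP] at hd
    have hj3 : j ≤ 3 := by
      by_contra hj3
      exact absurd ((pow_dvd_pow 2 (show 4 ≤ j by omega)).trans hd) (by norm_num)
    have he : Nw.subgroupOf P ⊔ K.subgroupOf P = Nw.subgroupOf P := (Subgroup.eq_of_le_of_card_ge le_sup_left (by
      rw [hj, Nat.card_congr (Subgroup.subgroupOfEquivOfLe hle).toEquiv, hcw]
      exact (Nat.pow_le_pow_right two_pos hj3).trans (by norm_num))).symm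
    have huw : (⟨u, hKle huK⟩ : P) ∈ Nw.subgroupOf P := he ▸ Subgroup.mem_sup_right huK
    have hcomm := centralizer_invol (Subgroup.mem_subgroupOf.1 huw) hw2
      (fun s hs hn => (inverts_of_not_mem p hsw (Subgroup.mem_subgroupOf.1 huw) hn).2 s hs) hw1
    have : u * t * u = t := by
      simp only [hwdef] at hcomm
      rw [← mul_assoc, mul_assoc t u u, hu2, mul_one] at hcomm
      exact hcomm
    rw [hutu] at this
    exact htt (by nth_rw 1 [← this]; rw [inv_mul_cancel])
  have hMN : ∀ m ∈ M, m ∈ Subgroup.normalizer (tor y : Set PG) → m ∈ K := by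
    intro m hm hmN
    have hTM : ∀ s ∈ tor y, s ∈ M → s ∈ K := by
      intro s hs hsM
      rcases htor s hs with e | e | e | e
      · exact e ▸ one_mem _
      · exact absurd (mul_mem (e ▸ hsM) (hKM huK)) hwM
      · exact e.trans hyt.symm ▸ hyK
      · exfalso
        refine hwM (mul_mem ?_ (hKM huK))
        have h4 : t ^ 4 = 1 := hord ▸ pow_orderOf_eq_one t
        have : t = s * (t * t) := by
          rw [e]
          calc t = t ^ 4 * t := by rw [h4, one_mul]
            _ = _ := by simp [pow_succ, mul_assoc]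
        rw [this]; exact mul_mem hsM (hyt ▸ mem_hull y)
    by_cases hmt : m ∈ tor y
    · exact hTM m hmt hm
    obtain ⟨w', -, -, -, -, hc'⟩ := normalizer_semis p hsy
    have h1 := (hc' u (hKN huK)).resolve_left hut
    have h2 := (hc' m hmN).resolve_left hmt
    have hum : u * m ∈ tor y := by
      have := mul_mem (inv_mem h1) h2
      rw [show (w' * u)⁻¹ * (w' * m) = u * m by rw [_root_.mul_inv_rev, huinv]; group] at this
      exact this
    have := mul_mem huK (hTM _ hum (mul_mem (hKM huK) hm))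
    rwa [← mul_assoc, hu2, one_mul] at this
  have hwy2 : (w * y) * (w * y) = 1 := by
    nth_rw 2 [hwy]; rw [mul_assoc, ← mul_assoc y y w, hy2, one_mul, hw2]
  have hwy1 : w * y ≠ 1 := fun e => hwt (by
    rw [mul_eq_one_iff_eq_inv.1 e]; exact inv_mem (mem_tor y))
  obtain ⟨kw, hkw⟩ := invol_conj (Or.inl h4) hy1 hy2 hwy1 hwy2
  obtain ⟨g, hg1, hg2, hg3⟩ := hb.tri_hull (x := y) (y := w) (z := w * y) ⟨1, by simpa using hy⟩
    ⟨kw, by rw [← hkw]; simpa [mul_assoc] using hy⟩ (by rw [← mul_assoc, hw2, one_mul])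
  have hS : ∀ s ∈ M, s ∈ Hull H w → s * s = 1 → s = 1 := by
    intro s hs hsw hs2
    by_contra hs1
    obtain ⟨k1, hk1⟩ := invol_conj (Or.inl h4) hy1 hy2 hs1 hs2
    obtain ⟨k2, hk2⟩ := invol_conj (Or.inl h4) hw1 hw2 hs1 hs2
    exact hwM (by rw [hMdef, ← hull_eq_of_mem hs hk1, hull_eq_of_mem hsw hk2]; exact mem_hull w)
  have hg : g = 1 := by
    have hgP : g ∈ P := Subgroup.le_normalizer hg1
    have hyNw : y ∈ Subgroup.normalizer (Hull H w : Set PG) :=
      mem_normalizer_hull H (Or.inl (by rw [← hwy, mul_inv_cancel_right]))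
    have hcm : g * y * g⁻¹ * y⁻¹ = 1 := by
      have hK' : g * y * g⁻¹ * y⁻¹ ∈ K := mul_mem (hKP g hgP y hyK) (inv_mem hyK)
      refine hS _ (hKM hK') ?_ (hsq _ hK')
      rw [show g * y * g⁻¹ * y⁻¹ = g * (y * g⁻¹ * y⁻¹) by group]
      exact mul_mem hg2 ((Subgroup.mem_normalizer_iff.1 hyNw g⁻¹).1 (inv_mem hg2))
    have hgy : g * y = y * g := mul_inv_eq_iff_eq_mul.1 (mul_inv_eq_one.1 hcm)
    exact hS g hg1 hg2 (hsq g (hMN g hg1 ((hcent g).1 hgy)))
  rw [hg, inv_one, one_mul] at hg3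
  obtain ⟨k, hk⟩ := invol_conj (Or.inl h4) hwy1 hwy2 hy1 hy2
  have e := hull_eq_of_mem hg3 hk
  have : w * y ∈ M := by rw [hMdef, e]; exact mem_hull _
  exact hwM (by simpa [mul_assoc] using mul_mem this (inv_mem (mem_hull y : y ∈ M)))

include p in
/-- The odd case. -/
theorem odd_main (hb : Bin H) (hH : H ≠ ⊤) (hodd : Odd (Fintype.card F)) (hq : 7 ≤ Fintype.card F) : H = ⊥ := by
  by_contra hne
  obtain ⟨v, hv, hv1, hv2⟩ := exists_invol_of_ne_bot p hb (by omega) (two_ne hodd) hne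
  exact no_invol p hb hH hodd hq hv hv1 hv2

end Cfsg.Agent.PSL2Bin
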