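import Cfsg.Agent.Suzuki.Binary
import Cfsg.Agent.Classical.Dickson2.Lines

/-!
Binary coset actions of PSL(2,q): generic facts and the triangle of conjugates of an element.
-/

set_option autoImplicit false

namespace Cfsg.Agent.PSL2Bin

open Matrix Cfsg.Agent.SL2Class Cfsg.Agent.Classical.Dickson2
open Cfsg.Agent.Suzuki (Bin Hull mem_hull hull_le hull_mono hull_inv hull_conj_eq card_hull_conj)
open scoped MatrixGroups

theorem mem_normalizer_hull {G : Type*} [Group G] (H : Subgroup G) {k x : G}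
    (h : k * x * k⁻¹ = x ∨ k * x * k⁻¹ = x⁻¹) : k ∈ Subgroup.normalizer (Hull H x : Set G) := by
  rw [Subgroup.mem_normalizer_iff_map_conj_eq]
  refine (hull_conj_eq k x).symm.trans ?_
  rcases h with h | h <;> rw [h]
  exact hull_inv x

theorem hull_eq_of_mem {G : Type*} [Group G] [Finite G] {H : Subgroup G} {x y : G} (hy : y ∈ Hull H x)
    {k : G} (hk : k * x * k⁻¹ = y) : Hull H y = Hull H x :=
  Subgroup.eq_of_le_of_card_ge (hull_mono hy) (by rw [← hk, card_hull_conj])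

variable {F : Type*} [Field F]

local notation "SG" => Matrix.SpecialLinearGroup (Fin 2) F
local notation "M2" => Matrix (Fin 2) (Fin 2) F
local notation "PG" => Matrix.ProjectiveSpecialLinearGroup (Fin 2) F
local notation:1024 "↥ₘ" A:1024 => ((A : Matrix.SpecialLinearGroup (Fin 2) F) : Matrix (Fin 2) (Fin 2) F)

/-- Conjugate to `x` or to its inverse. -/
def CI (x w : Matrix.ProjectiveSpecialLinearGroup (Fin 2) F) : Prop :=
  ∃ k, w = k * x * k⁻¹ ∨ w = k * x⁻¹ * k⁻¹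

/-- `x` is a product of two of its conjugates (up to inversion) outside its abelian subgroup. -/
def Tri (x : Matrix.ProjectiveSpecialLinearGroup (Fin 2) F) : Prop :=
  ∃ y z, CI x y ∧ CI x z ∧ x = y * z ∧ y ∉ tor x

theorem CI.conj {x w : PG} (c : PG) (h : CI x w) : CI (c * x * c⁻¹) (c * w * c⁻¹) := by
  obtain ⟨k, rfl | rfl⟩ := h
  · exact ⟨c * k * c⁻¹, Or.inl (by group)⟩
  · exact ⟨c * k * c⁻¹, Or.inr (by group)⟩

theorem Tri.conj {x : PG} (c : PG) (h : Tri x) : Tri (c * x * c⁻¹) := by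
  obtain ⟨y, z, hy, hz, e, hn⟩ := h
  refine ⟨_, _, hy.conj c, hz.conj c, by rw [e]; group, fun hm => hn ?_⟩
  rw [tor_conj, mem_map_conj] at hm
  simpa [mul_assoc] using hm

theorem tor_inv {x : PG} (hx : x ≠ 1) : tor x⁻¹ = tor x :=
  tor_eq hx (inv_mem (mem_tor x)) (inv_ne_one.2 hx)

theorem tor_eq_of_mem {x z : PG} (hx : x ≠ 1) (hz : z ≠ 1) (h : x ∈ tor z) : tor x = tor z := tor_eq hz h hx

variable [Fintype F] {H : Subgroup (Matrix.ProjectiveSpecialLinearGroup (Fin 2) F)}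

theorem tor_le_normalizer_hull {x : PG} (hx : x ≠ 1) : tor x ≤ Subgroup.normalizer (Hull H x : Set PG) := fun t ht =>
  mem_normalizer_hull H (Or.inl (by rw [tor_comm hx ht (mem_tor x), mul_inv_cancel_right]))

theorem hull_ci {x w : PG} (hx : x ∈ H) (hx1 : x ≠ 1) (hle : Hull H x ≤ tor x) (h : CI x w) :
    Hull H w ≤ tor w ∧ w ≠ 1 ∧ ∃ c, c⁻¹ * w * c ∈ H := by
  obtain ⟨k, rfl | rfl⟩ := h
  · refine ⟨?_, fun e => hx1 ?_, k, by simpa [mul_assoc] using hx⟩
    · rw [hull_conj_eq, tor_conj]; exact Subgroup.map_mono hle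
    · simpa using e
  · refine ⟨?_, fun e => hx1 ?_, k, by simpa [mul_assoc] using hx⟩
    · rw [hull_conj_eq, tor_conj, hull_inv, tor_inv hx1]; exact Subgroup.map_mono hle
    · simpa using e

theorem hull_not_le_tor (hb : Bin H) {x : PG} (hx : x ∈ H) (hx1 : x ≠ 1) (ht : Tri x) :
    ¬ Hull H x ≤ tor x := by
  intro hle
  obtain ⟨y, z, hy, hz, e, hn⟩ := ht
  obtain ⟨hyl, hy1, -⟩ := hull_ci hx hx1 hle hy
  obtain ⟨hzl, hz1, hzc⟩ := hull_ci hx hx1 hle hz
  obtain ⟨g, h1, h2, h3⟩ := hb.tri_hull ⟨1, by simpa using hx⟩ hzc e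
  have hg : g = 1 := by
    by_contra hg
    exact hn (((tor_eq hy1 (hyl h2) hg).symm.trans (tor_eq hx1 (hle h1) hg)) ▸ mem_tor y)
  rw [hg, inv_one, one_mul] at h3
  have hzx : z ∈ tor x := by
    rw [tor_eq_of_mem hx1 hz1 (hzl h3)]; exact mem_tor z
  exact hn (by rw [eq_mul_inv_of_mul_eq e.symm]; exact mul_mem (mem_tor x) (inv_mem hzx))

theorem hull_ne_top (hH : H ≠ ⊤) {x : PG} (hx : x ∈ H) : Hull H x ≠ ⊤ :=
  fun e => hH (top_le_iff.1 (e ▸ hull_le hx))

theorem normalizer_hull_ne_top (hq : 4 ≤ Fintype.card F) (hH : H ≠ ⊤) {x : PG} (hx : x ∈ H) (hx1 : x ≠ 1) :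
    Subgroup.normalizer (Hull H x : Set PG) ≠ ⊤ := by
  intro e
  haveI := isSimple_pg (F := F) hq
  rcases (Subgroup.normalizer_eq_top_iff.1 e).eq_bot_or_eq_top with h | h
  · exact hx1 (Subgroup.mem_bot.1 (h ▸ mem_hull x))
  · exact hull_ne_top hH hx h

/-! ### Triangles of semisimple elements -/

theorem conic {A C : F} {a0 w0 : F} (hA : A ≠ 0) (hC : C ≠ 0) (h2 : (2 : F) ≠ 0) (hq : 4 ≤ Fintype.card F)
    (h0 : w0 * w0 = A * (a0 * a0) + C) : ∃ a w : F, w ≠ 0 ∧ w * w = A * (a * a) + C := by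
  classical
  by_cases hw : w0 = 0
  swap
  · exact ⟨a0, w0, hw, h0⟩
  subst hw
  have ha : a0 ≠ 0 := fun e => hC (by rw [e] at h0; linear_combination -h0)
  obtain ⟨k, hk0, hkA⟩ : ∃ k : F, k ≠ 0 ∧ k * k - A ≠ 0 := by
    by_cases hr : ∃ r : F, r * r = A
    · obtain ⟨r, hr⟩ := hr
      obtain ⟨k, hk⟩ : ∃ k, k ∉ ({0, r, -r} : Finset F) := by
        by_contra hcon
        push Not at hcon
        have := Finset.card_le_card (fun x _ => hcon x : Finset.univ ⊆ ({0, r, -r} : Finset F))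
        have h3 := Finset.card_le_three (a := (0 : F)) (b := r) (c := -r)
        rw [Finset.card_univ] at this
        omega
      simp only [Finset.mem_insert, Finset.mem_singleton, not_or] at hk
      refine ⟨k, hk.1, fun e => ?_⟩
      rcases mul_eq_zero.1 (show (k - r) * (k + r) = 0 by linear_combination e - hr) with h | h
      · exact hk.2.1 (sub_eq_zero.1 h)
      · exact hk.2.2 (eq_neg_of_add_eq_zero_left h)
    · exact ⟨1, one_ne_zero, fun e => hr ⟨1, sub_eq_zero.1 e⟩⟩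
  set e : F := (k * k - A)⁻¹ with he
  have he1 : e * (k * k - A) = 1 := inv_mul_cancel₀ hkA
  refine ⟨a0 * (k * k + A) * e, 2 * k * a0 * A * e,
    mul_ne_zero (mul_ne_zero (mul_ne_zero (mul_ne_zero h2 hk0) ha) hA) (inv_ne_zero hkA), ?_⟩
  rw [show C = -(A * (a0 * a0)) by linear_combination -h0]
  linear_combination -(a0 * a0 * A) * (e * (k * k - A) + 1) * he1

theorem exists_second (hq : 4 ≤ Fintype.card F) (h2 : (2 : F) ≠ 0) {t : F} (ht : t * t ≠ 4) :
    ∃ h : SG, tr h = t ∧ (tr (h⁻¹ * comp t) = t ∨ tr (h⁻¹ * comp t) = -t) ∧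
      h ∉ Subgroup.centralizer ({comp t} : Set SG) := by
  obtain ⟨s, hs, hs2, hs3⟩ : ∃ s : F, (s = t ∨ s = -t) ∧ 2 - s ≠ 0 ∧ t * t - s - 2 ≠ 0 := by
    by_cases h : t = -1
    · refine ⟨1, Or.inr (by rw [h, neg_neg]), by norm_num, fun e => h2 ?_⟩
      rw [h] at e; linear_combination -e
    · refine ⟨t, Or.inl rfl, fun e => ht ?_, fun e => ?_⟩
      · rw [show t = 2 by linear_combination -e]; norm_num
      · rcases mul_eq_zero.1 (show (t + 1) * (t - 2) = 0 by linear_combination e) with h' | h'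
        · exact h (eq_neg_of_add_eq_zero_left h')
        · exact ht (by rw [sub_eq_zero.1 h']; norm_num)
  have hA : t * t - 4 ≠ 0 := sub_ne_zero.2 ht
  obtain ⟨β, hβ⟩ : ∃ β : F, β * (t * t - 4) = t * (2 - s) := ⟨_, div_mul_cancel₀ _ hA⟩
  set C : F := s * s - 4 - (t * t - 4) * (β * β) with hC
  have hC0 : C ≠ 0 := by
    intro e
    have e' : C * (t * t - 4) = -(4 * (2 - s) * (t * t - s - 2)) := by
      rw [hC]; linear_combination -(β * (t * t - 4) + t * (2 - s)) * hβ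
    rw [e, zero_mul] at e'
    have h4 : (4 : F) ≠ 0 := by rw [show (4 : F) = 2 * 2 by norm_num]; exact mul_ne_zero h2 h2
    exact mul_ne_zero (mul_ne_zero h4 hs2) hs3 (neg_eq_zero.1 e'.symm)
  obtain ⟨u, v, huv⟩ := exists_N2_eq (Or.inl ht : t * t ≠ 4 ∨ (2 : F) = 0) C
  obtain ⟨a', w, hw, haw⟩ := conic (a0 := v / 2) (w0 := u + t * v / 2) hA hC0 h2 hq
    (by rw [← huv]; simp only [N2]; field_simp; ring)
  set a : F := a' - β with ha
  have hD : w * w = (s - t * a) * (s - t * a) - 4 * (a * a - a * t + 1) := by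
    rw [ha]; rw [hC] at haw; linear_combination haw + 2 * (a' - β) * hβ
  set B : F := (w - (s - t * a)) / 2 with hB
  have hdet : a * (t - a) - B * (s - t * a + B) = 1 := by
    have h4 : (4 : F) ≠ 0 := by rw [show (4 : F) = 2 * 2 by norm_num]; exact mul_ne_zero h2 h2
    have hB2 : 2 * B = w - (s - t * a) := by rw [hB]; field_simp
    refine mul_left_cancel₀ h4 ?_
    linear_combination -(2 * B + (s - t * a) + w) * hB2 - hD
  obtain ⟨h, hh⟩ : ∃ h : SG, ↥ₘ h = !![a, B; s - t * a + B, t - a] :=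
    ⟨⟨_, by rw [det_fin_two_of]; exact hdet⟩, rfl⟩
  refine ⟨h, by simp [tr, hh], ?_, ?_⟩
  · have : tr (h⁻¹ * comp t) = s := by
      simp [tr, hh, Matrix.SpecialLinearGroup.coe_inv, Matrix.adjugate_fin_two, Matrix.mul_apply, Fin.sum_univ_two, coe_comp]
      ring
    rw [this]; exact hs
  · intro hm
    obtain ⟨x, y, e⟩ := (mem_centralizer (nonScalar_comp t)).1 hm
    have e01 := congrFun (congrFun e 0) 1
    have e10 := congrFun (congrFun e 1) 0
    simp [lin_apply, coe_comp, hh] at e01 e10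
    apply hw
    have : w = B + (s - t * a + B) := by rw [hB]; field_simp; ring
    rw [this, e10, e01]; ring

theorem exists_second_even (h2 : (2 : F) = 0) {t : F} (ht : t * t ≠ 4) (ht1 : t ≠ 1) :
    ∃ h : SG, tr h = t ∧ (tr (h⁻¹ * comp t) = t ∨ tr (h⁻¹ * comp t) = -t) ∧
      h ∉ Subgroup.centralizer ({comp t} : Set SG) := by
  obtain ⟨r, hr⟩ := exists_sq_eq_of_two_eq_zero h2 t
  have hdet : (1 : F) * (1 + t) - r * r = 1 := by rw [hr]; ring
  obtain ⟨h, hh⟩ : ∃ h : SG, ↥ₘ h = !![1, r; r, 1 + t] :=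
    ⟨⟨_, by rw [det_fin_two_of]; exact hdet⟩, rfl⟩
  refine ⟨h, ?_, Or.inl ?_, ?_⟩
  · simp [tr, hh]; linear_combination h2
  · simp [tr, hh, Matrix.SpecialLinearGroup.coe_inv, Matrix.adjugate_fin_two, Matrix.mul_apply, Fin.sum_univ_two, coe_comp]
  · intro hm
    obtain ⟨x, y, e⟩ := (mem_centralizer (nonScalar_comp t)).1 hm
    have e00 := congrFun (congrFun e 0) 0
    have e10 := congrFun (congrFun e 1) 0
    have e11 := congrFun (congrFun e 1) 1
    simp [lin_apply, coe_comp, hh] at e00 e10 e11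
    have h5 : (r - 1) * t = 0 := by
      rw [← e00, ← e10] at e11; linear_combination -e11
    rcases mul_eq_zero.1 h5 with h | h
    · exact ht1 (by rw [← hr, sub_eq_zero.1 h, one_mul])
    · exact ht (by rw [h]; linear_combination (-2 : F) * h2)

theorem tri_of_lift {g h : SG} (ht : tr g * tr g ≠ 4) (hh : tr h = tr g)
    (hz : tr (h⁻¹ * g) = tr g ∨ tr (h⁻¹ * g) = -tr g)
    (hn : h ∉ Subgroup.centralizer ({g} : Set SG)) : Tri (proj g) := by
  have hgn := nonScalar_of_sq_ne ht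
  have key : ∀ k : SG, tr k = tr g → CI (proj g) (proj k) := by
    intro k hk
    obtain ⟨c, hc⟩ := isConj_iff.1 (isConj_of_tr hgn (nonScalar_of_sq_ne (by rw [hk]; exact ht)) hk.symm (Or.inl ht))
    exact ⟨proj c, Or.inl (by rw [← map_inv, ← map_mul, ← map_mul, hc])⟩
  refine ⟨proj h, proj (h⁻¹ * g), key h hh, ?_, by rw [← map_mul, mul_inv_cancel_left], ?_⟩
  · rcases hz with hz | hz
    · exact key _ hz
    · rw [show proj (h⁻¹ * g) = proj (-(h⁻¹ * g)) from proj_eq_iff.2 (Or.inr rfl)]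
      exact key _ (by rw [tr_neg, hz, neg_neg])
  · rwa [tor_proj, proj_mem_torus_iff]

/-- The only semisimple elements with no triangle. -/
def Exc (x : Matrix.ProjectiveSpecialLinearGroup (Fin 2) F) : Prop :=
  (2 : F) = 0 ∧ NoRoot (1 : F) ∧ tr (sect x) = 1

variable (p : ℕ) [Fact p.Prime] [CharP F p]

theorem tri_semis (hq : 4 ≤ Fintype.card F) {x : PG} (hx : x ^ p ≠ 1) (he : ¬ Exc x) : Tri x := by
  have ht := tr_of_semis p hx
  have hgn := nonScalar_of_sq_ne ht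
  suffices hs : ∃ g : SG, tr g = tr (sect x) ∧ Tri (proj g) by
    obtain ⟨g, hg, hT⟩ := hs
    obtain ⟨c, hc⟩ := isConj_iff.1 (isConj_of_tr (nonScalar_of_sq_ne (by rw [hg]; exact ht)) hgn hg
      (Or.inl (by rw [hg]; exact ht)))
    have := hT.conj (proj c)
    rwa [← map_inv, ← map_mul, ← map_mul, hc, proj_sect] at this
  by_cases h2 : (2 : F) = 0
  swap
  · obtain ⟨h, h1, h3, h4⟩ := exists_second hq h2 ht
    exact ⟨comp (tr (sect x)), tr_comp _, tri_of_lift (by rwa [tr_comp]) (by rw [h1, tr_comp])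
      (by rwa [tr_comp]) h4⟩
  by_cases ht1 : tr (sect x) = 1
  swap
  · obtain ⟨h, h1, h3, h4⟩ := exists_second_even h2 ht ht1
    exact ⟨comp (tr (sect x)), tr_comp _, tri_of_lift (by rwa [tr_comp]) (by rw [h1, tr_comp])
      (by rwa [tr_comp]) h4⟩
  obtain ⟨ω, hω⟩ : ∃ ω : F, ω * ω - 1 * ω + 1 = 0 :=
    (noRoot_or_root (1 : F)).resolve_left fun hn => he ⟨h2, hn, ht1⟩
  have hdg : (!![ω, 0; 0, 1 - ω] : M2).det = 1 := by rw [det_fin_two_of]; linear_combination -hω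
  have hdh : (!![1 - ω, 1; 0, ω] : M2).det = 1 := by rw [det_fin_two_of]; linear_combination -hω
  obtain ⟨g, hgm⟩ : ∃ g : SG, ↥ₘ g = !![ω, 0; 0, 1 - ω] := ⟨⟨_, hdg⟩, rfl⟩
  obtain ⟨h, hhm⟩ : ∃ h : SG, ↥ₘ h = !![1 - ω, 1; 0, ω] := ⟨⟨_, hdh⟩, rfl⟩
  have hg : tr g = 1 := by simp [tr, hgm]
  have hh1 : tr h = 1 := by simp [tr, hhm]
  refine ⟨g, hg.trans ht1.symm, tri_of_lift (h := h) (by rw [hg, ← ht1]; exact ht) (hh1.trans hg.symm) (Or.inl ?_) ?_⟩
  · rw [hg]
    simp [tr, hgm, hhm, Matrix.SpecialLinearGroup.coe_inv, Matrix.adjugate_fin_two, Matrix.mul_apply, Fin.sum_univ_two]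
    linear_combination 2 * hω - h2
  · intro hm
    have e := congrFun (congrFun (congrArg (fun A : SG => ↥ₘ A) (Subgroup.mem_centralizer_singleton_iff.1 hm)) 0) 1
    simp [hgm, hhm, Matrix.SpecialLinearGroup.coe_mul, Matrix.mul_apply, Fin.sum_univ_two] at e
    exact one_ne_zero (α := F) (by linear_combination e + ω * h2)

theorem centralizer_semis {x k : PG} (hk : k * x = x * k) :
    k ∈ Subgroup.normalizer (tor x : Set PG) := by
  rw [Subgroup.mem_normalizer_iff_map_conj_eq]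
  exact (tor_conj k x).symm.trans (by rw [hk, mul_inv_cancel_right])

theorem normalizer_tor_le {x : PG} (hx : x ^ p ≠ 1) :
    Subgroup.normalizer (tor x : Set PG) ≤ Subgroup.normalizer (Hull H x : Set PG) := by
  intro k hk
  by_cases h : k ∈ tor x
  · exact tor_le_normalizer_hull (ne_one_of_semis p hx) h
  · exact mem_normalizer_hull H (Or.inr ((inverts_of_not_mem p hx hk h).2 x (mem_tor x)))

/-- An element normalised into a Borel subgroup together with an inverting element has order two. -/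
theorem no_inverter {u x c w : PG} (hu1 : u ≠ 1) (hu : u ^ p = 1) (hx : x ^ p ≠ 1) (hx2 : x * x ≠ 1)
    (hxN : x ∈ Subgroup.normalizer (tor u : Set PG)) (hc : c ∈ tor u) (hc1 : c ≠ 1)
    (hw : w * x * w⁻¹ = x⁻¹) (hwc : w * c * w⁻¹ ∈ Subgroup.normalizer (tor u : Set PG)) : False := by
  have hcp : c ^ p = 1 := unip_of_mem p hu1 hu hc
  have h1 : w * c * w⁻¹ ∈ tor u := borel_unip p hu1 hu hwc (by rw [conj_pow, hcp, mul_one, mul_inv_cancel])
  have h2 : w * c * w⁻¹ ≠ 1 := fun e => hc1 (by simpa using e)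
  have hwN : w ∈ Subgroup.normalizer (tor u : Set PG) := by
    rw [Subgroup.mem_normalizer_iff_map_conj_eq]
    nth_rw 1 [← tor_eq hu1 hc hc1]
    exact (tor_conj w c).symm.trans (tor_eq hu1 h1 h2)
  have h3 := borel_comm p hu1 hu hwN hxN
  rw [hw] at h3
  exact semis_of_mem p hx (mul_mem (inv_mem (mem_tor x)) (inv_mem (mem_tor x)))
    (fun e => hx2 (inv_eq_one.1 (by rw [_root_.mul_inv_rev]; exact e))) (unip_of_mem p hu1 hu h3)

theorem two_dvd_of_sub {M : Subgroup PG} (h : SubCase p M) : 2 ∣ Nat.card M := by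
  obtain ⟨s, m, -, hs, -, hc, -⟩ := sub_card p h
  rcases Nat.even_or_odd s with ⟨j, hj⟩ | ⟨j, hj⟩
  · have hg : Nat.gcd 2 (s - 1) = 1 :=
      Nat.Prime.coprime_iff_not_dvd Nat.prime_two |>.2 (by omega)
    have : 2 ∣ s * (s ^ 2 - 1) := Dvd.dvd.mul_right ⟨j, by omega⟩ _
    rcases hc with hc | ⟨hc, -⟩
    · rw [hg, mul_one] at hc; rwa [hc]
    · rwa [hc]
  · have h4 : 4 ∣ s * (s ^ 2 - 1) := by
      refine Dvd.dvd.mul_left ⟨j * j + j, ?_⟩ _
      subst hj
      zify [Nat.one_le_pow 2 (2 * j + 1) (by omega)]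
      ring
    have hg : Nat.gcd 2 (s - 1) = 2 := Nat.gcd_eq_left (by omega)
    rcases hc with hc | ⟨hc, -⟩
    · rw [hg] at hc; omega
    · rw [← hc] at h4; exact dvd_trans (by norm_num) h4

theorem exceptional_even {M : Subgroup PG} (h : Nonempty (M ≃* alternatingGroup (Fin 4)) ∨
    Nonempty (M ≃* Equiv.Perm (Fin 4)) ∨ Nonempty (M ≃* alternatingGroup (Fin 5)) ∨ SubCase p M) :
    2 ∣ Nat.card M := by
  rcases h with ⟨⟨e⟩⟩ | ⟨⟨e⟩⟩ | ⟨⟨e⟩⟩ | h
  · rw [Nat.card_congr e.toEquiv, card_a4]; norm_num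
  · rw [Nat.card_congr e.toEquiv, card_s4]; norm_num
  · rw [Nat.card_congr e.toEquiv, card_a5]; norm_num
  · exact two_dvd_of_sub p h

theorem exists_invol {M : Subgroup PG} (h : 2 ∣ Nat.card M) : ∃ v ∈ M, v ≠ 1 ∧ v * v = 1 := by
  obtain ⟨v, hv⟩ := exists_prime_orderOf_dvd_card' (G := M) 2 h
  refine ⟨v.1, v.2, fun e => ?_, ?_⟩
  · rw [show v = 1 from Subtype.ext e, orderOf_one] at hv; exact absurd hv (by norm_num)
  · rw [← pow_two, ← Subgroup.coe_pow, orderOf_dvd_iff_pow_eq_one.1 hv.dvd]; rfl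

/-- The hull of a semisimple element of order at least three contains an involution. -/
theorem invol_in_hull (hb : Bin H) (hq : 4 ≤ Fintype.card F) {x : PG} (hx : x ∈ H) (hxp : x ^ p ≠ 1)
    (hx2 : x * x ≠ 1) (he : ¬ Exc x) : ∃ v ∈ Hull H x, v ≠ 1 ∧ v * v = 1 := by
  by_contra hno
  have hx1 := ne_one_of_semis p hxp
  refine hull_not_le_tor hb hx hx1 (tri_semis p hq hxp he) fun m hm => ?_
  rcases classify p (Hull H x) with ⟨z, hz, hM⟩ | ⟨u, hu1, hu, hM⟩ | hex
  · have hall : ∀ k ∈ Hull H x, k ∈ tor z := fun k hk => by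
      by_contra hkn
      exact hno ⟨k, hk, fun e => hkn (e ▸ one_mem _), (inverts_of_not_mem p hz (hM hk) hkn).1⟩
    rw [tor_eq (ne_one_of_semis p hz) (hall x (mem_hull x)) hx1]
    exact hall m hm
  · obtain ⟨w, hwn, -, hwN, hwi, -⟩ := normalizer_semis p hxp
    have hcomm : m * x = x * m := by
      by_contra hne
      set c := m * x * m⁻¹ * x⁻¹ with hc
      have hcM : c ∈ Hull H x :=
        mul_mem (mul_mem (mul_mem hm (mem_hull x)) (inv_mem hm)) (inv_mem (mem_hull x))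
      have hc1 : c ≠ 1 := fun e => hne (by
        rw [hc, mul_inv_eq_one, mul_inv_eq_iff_eq_mul] at e; exact e)
      exact no_inverter p hu1 hu hxp hx2 (hM (mem_hull x)) (borel_comm p hu1 hu (hM hm) (hM (mem_hull x)))
        hc1 (hwi x (mem_tor x))
        (hM ((Subgroup.mem_normalizer_iff.1 (normalizer_tor_le p hxp hwN) c).1 hcM))
    by_contra hmn
    have := (inverts_of_not_mem p hxp (centralizer_semis hcomm) hmn).2 x (mem_tor x)
    rw [hcomm, mul_inv_cancel_right] at this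
    exact hx2 (by nth_rw 2 [this]; rw [mul_inv_cancel])
  · exact absurd (exists_invol (exceptional_even p hex)) hno

end Cfsg.Agent.PSL2Bin
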