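import Cfsg.Agent.PSL2Bin.Basic

/-!
The binary coset actions of PSL(2, 2^a).
-/

set_option autoImplicit false

namespace Cfsg.Agent.PSL2Bin

open Matrix Cfsg.Agent.SL2Class Cfsg.Agent.Classical.Dickson2
open Cfsg.Agent.Suzuki (Bin Hull mem_hull hull_le hull_mono hull_inv hull_conj_eq card_hull_conj bin_of_no_triangle)
open scoped MatrixGroups

variable {F : Type*} [Field F] [Fintype F] [CharP F 2]

local notation "SG" => Matrix.SpecialLinearGroup (Fin 2) F
local notation "M2" => Matrix (Fin 2) (Fin 2) F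
local notation "PG" => Matrix.ProjectiveSpecialLinearGroup (Fin 2) F
local notation:1024 "↥ₘ" A:1024 => ((A : Matrix.SpecialLinearGroup (Fin 2) F) : Matrix (Fin 2) (Fin 2) F)

variable {H : Subgroup (Matrix.ProjectiveSpecialLinearGroup (Fin 2) F)}

omit [Fintype F] in
theorem two_zero : (2 : F) = 0 := CharTwo.two_eq_zero

theorem sq_one_iff {x : PG} : x ^ 2 = 1 ↔ x * x = 1 := by rw [pow_two]

theorem invol_conj_even {y v : PG} (hy1 : y ≠ 1) (hy : y * y = 1) (hv1 : v ≠ 1) (hv : v * v = 1) :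
    ∃ k, k * y * k⁻¹ = v := by
  have h0 : ∀ z : PG, z ≠ 1 → z * z = 1 → tr (sect z) = 0 := fun z h1 h2 => by
    have h := tr_of_unip (F := F) 2 h1 (sq_one_iff.2 h2)
    exact (sq_eq_four_iff_even two_zero _).1 h
  obtain ⟨c, hc⟩ := isConj_iff.1 (isConj_of_tr (nonScalar_sect hy1) (nonScalar_sect hv1)
    ((h0 y hy1 hy).trans (h0 v hv1 hv).symm) (Or.inr two_zero))
  exact ⟨proj c, by rw [← proj_sect y, ← map_inv, ← map_mul, ← map_mul, hc, proj_sect]⟩

theorem exc_not_borel {u x : PG} (hu1 : u ≠ 1) (hu : u ^ 2 = 1)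
    (hxN : x ∈ Subgroup.normalizer (tor u : Set PG)) : ¬ Exc x := by
  rintro ⟨-, hnr, htr⟩
  obtain ⟨v, hv, e⟩ := exists_lineStab 2 hu1 hu
  refine noRoot_lines (g := sect x) ?_ hv ?_
  · rw [htr]; exact hnr
  · rw [proj_sect, ← e]; exact hxN

/-- No semisimple element of `H` has its hull inside a Borel subgroup. -/
theorem borel_semis_false (hb : Bin H) (hq : 4 ≤ Fintype.card F) {u x : PG} (hu1 : u ≠ 1) (hu : u ^ 2 = 1)
    (hx : x ∈ H) (hxp : x ^ 2 ≠ 1) (hle : Hull H x ≤ Subgroup.normalizer (tor u : Set PG)) : False := by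
  have hxN := hle (mem_hull x)
  have hx2 : x * x ≠ 1 := fun e => hxp (sq_one_iff.2 e)
  obtain ⟨v, hv, hv1, hv2⟩ := invol_in_hull 2 hb hq hx hxp hx2 (exc_not_borel hu1 hu hxN)
  obtain ⟨w, -, -, hwN, hwi, -⟩ := normalizer_semis 2 hxp
  exact no_inverter 2 hu1 hu hxp hx2 hxN (borel_unip 2 hu1 hu (hle hv) (sq_one_iff.2 hv2)) hv1
    (hwi x (mem_tor x)) (hle ((Subgroup.mem_normalizer_iff.1 (normalizer_tor_le (H := H) 2 hxp hwN) v).1 hv))

theorem coprime_q (s : ℕ) (hs : 2 ≤ s) (m : ℕ) : (s ^ m).Coprime (s ^ 2 - 1) := by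
  refine Nat.Coprime.pow_left m ?_
  have h1 : 1 ≤ s ^ 2 := Nat.one_le_pow _ _ (by omega)
  have h : Nat.Coprime (s ^ 2) (s ^ 2 - 1) := by
    nth_rw 1 [show s ^ 2 = (s ^ 2 - 1) + 1 by omega]
    exact Nat.coprime_self_add_left.2 (Nat.coprime_one_left _)
  exact Nat.Coprime.coprime_dvd_left (dvd_pow_self s two_ne_zero) h

theorem overgroup_sylow (hq : 4 ≤ Fintype.card F) {u : PG} (hu1 : u ≠ 1) (hu : u ^ 2 = 1) {P : Subgroup PG}
    (hle : tor u ≤ P) (hP : P ≠ ⊤) : P ≤ Subgroup.normalizer (tor u : Set PG) := by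
  obtain ⟨f, hf, hcard⟩ := Classical.card_field_eq_pow (F := F) 2
  have hf2 : 2 ≤ f := by
    by_contra hcon
    rw [show f = 1 by omega] at hcard
    omega
  have h4 : 4 ∣ Fintype.card F := by
    rw [hcard]; exact (pow_dvd_pow 2 hf2 : 2 ^ 2 ∣ 2 ^ f)
  have hqd : Fintype.card F ∣ Nat.card P := card_tor_unip 2 hu1 hu ▸ Subgroup.card_dvd_of_le hle
  rcases classify_strong 2 P with ⟨z, hz, hM⟩ | ⟨z, hz1, hz, hM⟩ | ⟨⟨e⟩, h⟩ | ⟨⟨e⟩, h⟩ | ⟨⟨e⟩, h⟩ | h
  · exfalso
    have h1 := h4.trans (hqd.trans (Subgroup.card_dvd_of_le hM))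
    rw [card_normalizer_semis 2 hz] at h1
    have h2 : Nat.Coprime (Nat.card (tor z)) 2 := coprime_tor_semis 2 hz
    have h3 : 2 ∣ Nat.card (tor z) := by omega
    exact Nat.prime_two.coprime_iff_not_dvd.1 h2.symm h3
  · have hmem := borel_unip 2 hz1 hz (hM (hle (mem_tor u))) hu
    rwa [tor_eq hz1 hmem hu1]
  · exfalso; exact h (by rw [Nat.card_congr e.toEquiv, card_a4]; norm_num)
  · exfalso; exact h (by rw [Nat.card_congr e.toEquiv, card_s4]; norm_num)
  · exfalso
    rcases h with h | h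
    · exact h (by rw [Nat.card_congr e.toEquiv, card_a5]; norm_num)
    · norm_num at h
  · exfalso
    obtain ⟨s, m, hm, hs, -, hc, -⟩ := sub_card 2 h
    have hm2 := sub_proper hm hc hP
    have hdvd : Fintype.card F ∣ s * (s ^ 2 - 1) := by
      rcases hc with hc | ⟨hc, -⟩
      · rw [← hc]; exact Dvd.dvd.mul_right hqd _
      · rwa [← hc]
    rw [← hm] at hdvd
    have h5 := Nat.le_of_dvd (by omega) ((coprime_q s (by omega) m).dvd_of_dvd_mul_right hdvd)
    have h6 : s ^ 2 ≤ s ^ m := Nat.pow_le_pow_right (by omega) hm2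
    nlinarith

/-- With an involution, `H` is a Sylow 2-subgroup. -/
theorem even_invol (hb : Bin H) (hH : H ≠ ⊤) (hq : 4 ≤ Fintype.card F) {y : PG} (hy : y ∈ H) (hy1 : y ≠ 1)
    (hy2 : y * y = 1) : H = tor y := by
  have hy' : y ^ 2 = 1 := sq_one_iff.2 hy2
  set M := Hull H y with hMdef
  have hPN := overgroup_sylow hq hy1 hy' (tor_le_normalizer_hull (H := H) hy1)
    (normalizer_hull_ne_top hq hH hy hy1)
  have hMN : M ≤ Subgroup.normalizer (tor y : Set PG) := Subgroup.le_normalizer.trans hPN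
  have hMU : M ≤ tor y := by
    intro m hm
    by_cases hm2 : m ^ 2 = 1
    · exact borel_unip 2 hy1 hy' (hMN hm) hm2
    · exact (borel_semis_false hb hq hy1 hy' (hull_le hy hm) hm2 ((hull_mono hm).trans hMN)).elim
  have hUM : tor y ≤ M := by
    intro w hw
    by_contra hwM
    have hw2 : w * w = 1 := sq_one_iff.1 (unip_of_mem 2 hy1 hy' hw)
    have hw1 : w ≠ 1 := fun e => hwM (e ▸ one_mem _)
    have hwy := tor_comm hy1 hw (mem_tor y)
    have hwy2 : (w * y) * (w * y) = 1 := by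
      nth_rw 2 [hwy]; rw [mul_assoc, ← mul_assoc y y w, hy2, one_mul, hw2]
    have hwy1 : w * y ≠ 1 := fun e => hwM (by
      rw [mul_eq_one_iff_eq_inv.1 e]; exact inv_mem (mem_hull y))
    obtain ⟨kw, hkw⟩ := invol_conj_even hy1 hy2 hwy1 hwy2
    obtain ⟨g, hg1, hg2, hg3⟩ := hb.tri_hull (x := y) (y := w) (z := w * y) ⟨1, by simpa using hy⟩
      ⟨kw, by rw [← hkw]; simpa [mul_assoc] using hy⟩ (by rw [← mul_assoc, hw2, one_mul])
    have hg : g = 1 := by
      by_contra hg
      have hgg := sq_one_iff.1 (unip_of_mem 2 hy1 hy' (hMU hg1))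
      obtain ⟨k1, hk1⟩ := invol_conj_even hy1 hy2 hg hgg
      obtain ⟨k2, hk2⟩ := invol_conj_even hw1 hw2 hg hgg
      exact hwM (by rw [hMdef, ← hull_eq_of_mem hg1 hk1, hull_eq_of_mem hg2 hk2]; exact mem_hull w)
    rw [hg, inv_one, one_mul] at hg3
    obtain ⟨k, hk⟩ := invol_conj_even hwy1 hwy2 hy1 hy2
    have : w * y ∈ M := by rw [hMdef, hull_eq_of_mem hg3 hk]; exact mem_hull _
    exact hwM (by simpa [mul_assoc] using mul_mem this (inv_mem (mem_hull y : y ∈ M)))
  have hle : tor y ≤ H := hUM.trans (hull_le hy)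
  refine le_antisymm (fun m hm => ?_) hle
  have hHN := overgroup_sylow hq hy1 hy' hle hH
  by_cases hm2 : m ^ 2 = 1
  · exact borel_unip 2 hy1 hy' (hHN hm) hm2
  · exact (borel_semis_false hb hq hy1 hy' hm hm2 ((hull_le hm).trans hHN)).elim

omit [Fintype F] in
theorem cube_of_exc {g : SG} (ht : tr g = 1) : proj g ^ 3 = 1 := by
  rw [← map_pow, proj_eq_one, SL2Class.mem_center_iff]
  have e : ↥ₘ (g ^ 3) = lin g (-1) 0 := by
    have h := g_sq g
    rw [ht] at h
    rw [pow_succ, pow_two, Matrix.SpecialLinearGroup.coe_mul, Matrix.SpecialLinearGroup.coe_mul, h]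
    have h3 := lin_mul g (-1) 1 0 1
    rw [lin_self, ht] at h3
    refine h3.trans ?_
    congr 1 <;> ring
  intro hns
  exact hns ⟨by simp [e, lin_apply], by simp [e, lin_apply], by simp [e, lin_apply]⟩

theorem noRoot_odd {a : ℕ} (h : Fintype.card F = 2 ^ a) : NoRoot (1 : F) ↔ Odd a := by
  classical
  have h2 : (2 : F) = 0 := two_zero
  have hq1 := Fintype.one_lt_card (α := F)
  constructor
  · intro hnr
    by_contra ha
    rw [Nat.not_odd_iff_even] at ha
    obtain ⟨b, rfl⟩ := ha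
    have h3 : 3 ∣ Nat.card Fˣ := by
      rw [Nat.card_units, Nat.card_eq_fintype_card, h, ← two_mul, pow_mul]
      have : 2 ^ 2 % 3 = 1 := rfl
      have h4 : (2 ^ 2) ^ b % 3 = 1 := by rw [Nat.pow_mod, this, one_pow]; rfl
      omega
    haveI : Fact (Nat.Prime 3) := ⟨Nat.prime_three⟩
    obtain ⟨ω, hω⟩ := exists_prime_orderOf_dvd_card' 3 h3
    have h5 : ((ω : F) - 1) * ((ω : F) * ω + ω + 1) = 0 := by
      have : (ω : F) ^ 3 = 1 := by rw [← Units.val_pow_eq_pow_val, ← hω, pow_orderOf_eq_one, Units.val_one]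
      linear_combination this
    rcases mul_eq_zero.1 h5 with h6 | h6
    · have : ω = 1 := Units.ext (sub_eq_zero.1 h6)
      rw [this, orderOf_one] at hω
      norm_num at hω
    · exact hnr ω (by linear_combination h6 - (ω : F) * h2)
  · intro ha r hr
    have hr0 : r ≠ 0 := fun e => by simp [e] at hr
    have hr3 : r ^ 3 = 1 := by linear_combination (r + 1) * hr - h2
    have hr1 : r ≠ 1 := fun e => by rw [e] at hr; simp at hr
    haveI : Fact (Nat.Prime 3) := ⟨Nat.prime_three⟩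
    have ho : orderOf (Units.mk0 r hr0) = 3 := orderOf_eq_prime (Units.ext (by simpa using hr3))
      fun e => hr1 (congrArg Units.val e)
    have h3 := orderOf_dvd_natCard (Units.mk0 r hr0)
    rw [ho, Nat.card_units, Nat.card_eq_fintype_card, h] at h3
    obtain ⟨b, rfl⟩ := ha
    have h4 : 2 ^ (2 * b + 1) % 3 = 2 := by
      rw [pow_succ, pow_mul, Nat.mul_mod, Nat.pow_mod]; norm_num
    obtain ⟨j, hj⟩ := h3
    have h5 : 2 ^ (2 * b + 1) = 3 * j + 1 := by rw [← hj, Nat.sub_add_cancel Nat.one_le_two_pow]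
    rw [h5] at h4
    omega

/-- A binary subgroup of odd order has order three. -/
theorem even_odd_order (hb : Bin H) (hq : 4 ≤ Fintype.card F) (hne : H ≠ ⊥)
    (hno : ∀ v ∈ H, v * v = 1 → v = 1) : NoRoot (1 : F) ∧ Nat.card H = 3 := by
  have hexc : ∀ h ∈ H, h ≠ 1 → h ^ 2 ≠ 1 ∧ Exc h := fun h hh hh1 => by
    have hp : h ^ 2 ≠ 1 := fun e => hh1 (hno h hh (sq_one_iff.1 e))
    refine ⟨hp, ?_⟩
    by_contra he
    obtain ⟨v, hv, hv1, hv2⟩ := invol_in_hull 2 hb hq hh hp (fun e => hp (sq_one_iff.2 e)) he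
    exact hv1 (hno v (hull_le hh hv) hv2)
  obtain ⟨x, hx, hx1⟩ := H.bot_or_exists_ne_one.resolve_left hne
  refine ⟨(hexc x hx hx1).2.2.1, ?_⟩
  have hthree : ∀ h ∈ H, h ^ 3 = 1 := fun h hh => by
    by_cases hh1 : h = 1
    · rw [hh1, one_pow]
    · rw [← proj_sect h]; exact cube_of_exc (hexc h hh hh1).2.2.2
  rcases classify 2 H with ⟨z, hz, hM⟩ | ⟨u, hu1, hu, hM⟩ | hex
  · have hle : H ≤ tor z := fun h hh => by
      by_contra hn
      exact hn ((hno h hh (inverts_of_not_mem 2 hz (hM hh) hn).1).symm ▸ one_mem _)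
    haveI := isCyclic_tor 2 hz
    haveI : IsCyclic H := isCyclic_of_injective _ (Subgroup.inclusion_injective hle)
    obtain ⟨g, hg⟩ := IsCyclic.exists_ofOrder_eq_natCard (α := H)
    have hd : Nat.card H ∣ 3 := by
      rw [← hg]
      exact orderOf_dvd_of_pow_eq_one (Subtype.ext (by simpa using hthree g g.2))
    rcases (Nat.dvd_prime Nat.prime_three).1 hd with h | h
    · exact absurd (Subgroup.card_eq_one.1 h) hne
    · exact h
  · exact absurd (hexc x hx hx1).2 (exc_not_borel hu1 hu (hM hx))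
  · obtain ⟨v, hv, hv1, hv2⟩ := exists_invol (exceptional_even 2 hex)
    exact absurd (hno v hv hv2) hv1

/-! ### The binary examples -/

theorem bin_sylow {u : PG} (hu1 : u ≠ 1) (hu : u ^ 2 = 1) : Bin (tor u) := by
  have hconj : ∀ c x : PG, c⁻¹ * x * c ∈ tor u → x ≠ 1 → tor x = (tor u).map (MulAut.conj c).toMonoidHom := by
    intro c x hx hx1
    have hne : c⁻¹ * x * c ≠ 1 := fun e => hx1 (by
      calc x = c * (c⁻¹ * x * c) * c⁻¹ := by group
        _ = 1 := by rw [e]; group)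
    rw [← tor_eq hu1 hx hne, ← tor_conj]
    congr 1; group
  have htwo : ∀ c x : PG, c⁻¹ * x * c ∈ tor u → x * x = 1 := fun c x hx => by
    have h := sq_one_iff.1 (unip_of_mem 2 hu1 hu hx)
    calc x * x = c * (c⁻¹ * x * c * (c⁻¹ * x * c)) * c⁻¹ := by group
      _ = 1 := by rw [h]; group
  refine bin_of_no_triangle _ (fun c d x hx hc hd w hw => ?_) fun c d e a b ha hb hab hca hdb heab => ?_
  · have : w ∈ (tor u).map (MulAut.conj d).toMonoidHom := by
      rw [← hconj d x hd hx, hconj c x hc hx]; exact mem_map_conj.2 hw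
    exact mem_map_conj.1 this
  · have ha2 := htwo c a hca
    have hb2 := htwo d b hdb
    have hcomm : a * b = b * a := by
      have h := inv_eq_of_mul_eq_one_right (htwo e (a * b) heab)
      rw [_root_.mul_inv_rev, inv_eq_of_mul_eq_one_right ha2, inv_eq_of_mul_eq_one_right hb2] at h
      exact h.symm
    have hba : b ∈ tor a := centralizer_unip 2 ha (sq_one_iff.2 ha2) hcomm.symm
    have hab' : a * b ∈ tor a := mul_mem (mem_tor a) hba
    have : a ∈ (tor u).map (MulAut.conj e).toMonoidHom := by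
      rw [← hconj e (a * b) heab hab, tor_eq ha hab' hab]; exact mem_tor a
    exact mem_map_conj.1 this

theorem tr_one_of_cube {g : SG} (hns : NonScalar g) (h : proj g ^ 3 = 1) : tr g = 1 := by
  have h2 : (2 : F) = 0 := two_zero
  rw [← map_pow, proj_eq_one, SL2Class.mem_center_iff] at h
  have hg := g_sq g
  have e : ↥ₘ (g ^ 3) = lin g (-tr g) (tr g * tr g - 1) := by
    rw [pow_succ, pow_two, Matrix.SpecialLinearGroup.coe_mul, Matrix.SpecialLinearGroup.coe_mul, hg]
    have h3 := lin_mul g (-1) (tr g) 0 1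
    rw [lin_self] at h3
    refine h3.trans ?_
    congr 1 <;> ring
  have hone : (-1 : M2) = 1 := by
    ext i j; fin_cases i <;> fin_cases j <;> simp [CharTwo.neg_eq]
  have e1 : ↥ₘ (g ^ 3) = 1 := by
    rcases scalar_cases h with h' | h'
    · exact h'
    · rw [h', hone]
  rw [e1, ← lin_one g] at e
  obtain ⟨a1, -⟩ := lin_ext hns e
  linear_combination a1 - h2

theorem bin_three {a : ℕ} (ha : Odd a) (hcard : Fintype.card F = 2 ^ a) (h3 : Nat.card H = 3) : Bin H := by
  haveI : Fact (Nat.Prime 3) := ⟨Nat.prime_three⟩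
  have hnr := (noRoot_odd hcard).2 ha
  have hcube : ∀ c x : PG, c⁻¹ * x * c ∈ H → x ^ 3 = 1 := fun c x hx => by
    have h := orderOf_dvd_iff_pow_eq_one.1 (h3 ▸ Subgroup.orderOf_dvd_natCard H hx)
    calc x ^ 3 = c * (c⁻¹ * x * c) ^ 3 * c⁻¹ := by simp [pow_succ, mul_assoc]
      _ = 1 := by rw [h]; group
  refine bin_of_no_triangle _ (fun c d x hx hc hd w hw => ?_) fun c d e a b ha' hb hab hca hdb heab => ?_
  · have hox : orderOf (c⁻¹ * x * c) = 3 := orderOf_eq_prime
      (orderOf_dvd_iff_pow_eq_one.1 (h3 ▸ Subgroup.orderOf_dvd_natCard H hc)) fun e => hx (by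
        calc x = c * (c⁻¹ * x * c) * c⁻¹ := by group
          _ = 1 := by rw [e]; group)
    have hgen : Subgroup.zpowers (c⁻¹ * x * c) = H := Subgroup.eq_of_le_of_card_ge
      ((Subgroup.zpowers_le).2 hc) (by rw [Nat.card_zpowers, hox, h3])
    rw [← hgen] at hw
    obtain ⟨i, hi⟩ := Subgroup.mem_zpowers_iff.1 hw
    have : w = x ^ i := by
      have := hi
      rw [show c⁻¹ * x * c = c⁻¹ * x * c⁻¹⁻¹ by rw [inv_inv], conj_zpow, inv_inv] at this
      simpa using this.symm
    rw [this, show d⁻¹ * x ^ i * d = (d⁻¹ * x * d) ^ i by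
      rw [show d⁻¹ * x * d = d⁻¹ * x * d⁻¹⁻¹ by rw [inv_inv], conj_zpow, inv_inv]]
    exact H.zpow_mem hd i
  · obtain ⟨A, rfl⟩ := proj_surjective a
    obtain ⟨B, rfl⟩ := proj_surjective b
    have tA := tr_one_of_cube (nonScalar_of_proj_ne ha') (hcube c _ hca)
    have tB := tr_one_of_cube (nonScalar_of_proj_ne hb) (hcube d _ hdb)
    rw [← map_mul] at hab heab
    have tAB := tr_one_of_cube (nonScalar_of_proj_ne hab) (hcube e _ heab)
    have hAB : A = B := by
      obtain ⟨k, hk⟩ := isConj_iff.1 (isConj_of_tr (nonScalar_of_proj_ne ha') (nonScalar_comp 1)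
        (by rw [tA, tr_comp]) (Or.inr two_zero))
      have tB' : tr (k * B * k⁻¹) = 1 := by rw [tr_conj, tB]
      have tAB' : tr (comp 1 * (k * B * k⁻¹)) = 1 := by
        rw [← hk, show k * A * k⁻¹ * (k * B * k⁻¹) = k * (A * B) * k⁻¹ by group, tr_conj, tAB]
      have hdet := det_eq (k * B * k⁻¹)
      set B' := k * B * k⁻¹ with hB'
      have h2 : (2 : F) = 0 := two_zero
      simp [tr, Matrix.SpecialLinearGroup.coe_mul, Matrix.mul_apply, Fin.sum_univ_two, coe_comp] at tB' tAB'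
      set p00 := ↥ₘ B' 0 0
      set p01 := ↥ₘ B' 0 1
      set p10 := ↥ₘ B' 1 0
      set p11 := ↥ₘ B' 1 1
      have hq11 : p11 = 1 + p00 := by linear_combination tB' - p00 * h2
      have ha0 : p00 = p01 + p10 := by linear_combination tAB' - hq11 - p01 * h2
      have hβ : (1 + p01) * (1 + p01) + (1 + p01) * (1 + p10) + (1 + p10) * (1 + p10) = 0 := by
        rw [hq11, ha0] at hdet
        linear_combination hdet + (2 + p01 + p10) * h2
      have hγ : 1 + p10 = 0 := by
        by_contra hne0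
        refine hnr ((1 + p01) / (1 + p10)) ?_
        field_simp
        linear_combination hβ - (1 + p01) * (1 + p10) * h2
      have hb1 : 1 + p01 = 0 := by
        rw [hγ] at hβ
        exact mul_self_eq_zero.1 (by linear_combination hβ)
      have e00 : p00 = 0 := by linear_combination ha0 + hγ + hb1 - h2
      have hB : B' = comp 1 := Subtype.ext (by
        ext i j
        fin_cases i <;> fin_cases j <;> simp [coe_comp]
        · exact e00
        · linear_combination hb1
        · linear_combination hγ - h2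
        · linear_combination hq11 + e00)
      rw [← hk] at hB
      simpa [B'] using hB.symm
    subst hAB
    have h4 : proj A = proj (A * A) * proj (A * A) := by
      have h := hcube c _ hca
      calc proj A = proj A ^ 3 * proj A := by rw [h, one_mul]
        _ = _ := by simp [pow_succ, mul_assoc]
    rw [h4]
    have := H.mul_mem heab heab
    simpa [mul_assoc] using this

end Cfsg.Agent.PSL2Bin
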